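import Mathlib.Algebra.Homology.DerivedCategory.Ext.MapBijective
import Mathlib.CategoryTheory.Adjunction.Basic

/-!
# Ext along an exact right adjoint preserving injectives
-/

set_option autoImplicit false

universe w v v' u u'

open CategoryTheory CategoryTheory.Limits CategoryTheory.Abelian

namespace Groth.Agent.OrdSurf29

variable {C : Type u} [Category.{v} C] [Abelian C] {D : Type u'} [Category.{v'} D] [Abelian D]
  (R : C ⥤ D) [R.Additive] [PreservesFiniteLimits R] [PreservesFiniteColimits R]
  {L : D ⥤ C} (adj : L ⊣ R) [HasExt.{w} C] [HasExt.{w} D]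

/-- The comparison map. -/
noncomputable def cmp (M : D) (N : C) (i : ℕ) : Ext.{w} (L.obj M) N i →+ Ext.{w} M (R.obj N) i :=
  ((Ext.mk₀ (adj.unit.app M)).precomp (R.obj N) (zero_add i)).comp (R.mapExtAddHom (L.obj M) N i)

theorem cmp_apply (M : D) (N : C) (i : ℕ) (e : Ext.{w} (L.obj M) N i) :
    cmp R adj M N i e = (Ext.mk₀ (adj.unit.app M)).comp (e.mapExactFunctor R) (zero_add i) := rfl

theorem cmp_comp (M : D) {N N' : C} {a b c : ℕ} (e : Ext.{w} (L.obj M) N a) (γ : Ext.{w} N N' b) (h : a + b = c) :
    cmp R adj M N' c (e.comp γ h) = (cmp R adj M N a e).comp (γ.mapExactFunctor R) h := by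
  rw [cmp_apply, cmp_apply, Ext.mapExactFunctor_comp]
  exact (Ext.comp_assoc _ _ _ (zero_add a) h (by omega)).symm

attribute [local instance] Ext.subsingleton_of_injective in
theorem bijective_cmp [EnoughInjectives C] (hR : ∀ I : C, Injective I → Injective (R.obj I))
    (M : D) (N : C) (n : ℕ) : Function.Bijective (cmp R adj M N n) := by
  induction n generalizing N with
  | zero =>
    have : (cmp R adj M N 0 : Ext.{w} (L.obj M) N 0 → Ext.{w} M (R.obj N) 0) =
        Ext.mk₀ ∘ (adj.homEquiv M N) ∘ Ext.homEquiv₀ := by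
      funext e
      obtain ⟨f, rfl⟩ := (Ext.mk₀_bijective (L.obj M) N).2 e
      rw [cmp_apply, Ext.mapExactFunctor_mk₀, Ext.mk₀_comp_mk₀]
      simp [Adjunction.homEquiv_unit, Ext.homEquiv₀]
    rw [this]
    exact (Ext.mk₀_bijective _ _).comp ((adj.homEquiv M N).bijective.comp Ext.homEquiv₀.bijective)
  | succ n hn =>
    let I : InjectivePresentation N := Classical.arbitrary _
    let S := ShortComplex.mk _ _ (cokernel.condition I.f)
    have : Injective (S.map R).X₂ := hR _ I.injective
    have hS : S.ShortExact := { exact := ShortComplex.exact_cokernel I.f }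
    refine AddMonoidHom.bijective_of_surjective_of_bijective_of_right_exact _ _ _ _
      (cmp R adj M S.X₂ n) (cmp R adj M S.X₃ n) (cmp R adj M S.X₁ (n + 1)) ?_ ?_
      ((ShortComplex.ab_exact_iff_function_exact _).mp
        (Ext.covariant_sequence_exact₃' (L.obj M) hS n (n + 1) rfl))
      ((ShortComplex.ab_exact_iff_function_exact _).mp
        (Ext.covariant_sequence_exact₃' M (hS.map R) n (n + 1) rfl))
      (hn _).surjective (hn _)
      (fun x₁ ↦ Ext.covariant_sequence_exact₁ _ hS x₁ (Subsingleton.elim _ _) rfl)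
      (fun y₁ ↦ Ext.covariant_sequence_exact₁ _ (hS.map R) y₁ (Subsingleton.elim _ _) rfl)
    · refine AddMonoidHom.ext fun e => ?_
      show (cmp R adj M S.X₂ n e).comp (Ext.mk₀ (R.map S.g)) (add_zero n) =
        cmp R adj M S.X₃ n (e.comp (Ext.mk₀ S.g) (add_zero n))
      rw [cmp_comp, Ext.mapExactFunctor_mk₀]
    · refine AddMonoidHom.ext fun e => ?_
      show (cmp R adj M S.X₃ n e).comp (hS.map R).extClass rfl =
        cmp R adj M S.X₁ (n + 1) (e.comp hS.extClass rfl)
      rw [cmp_comp, Ext.mapExactFunctor_extClass]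
      rfl

end Groth.Agent.OrdSurf29
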