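import Groth.Agent.OrdSurf29.Godement
import Mathlib.Algebra.Category.ModuleCat.Presheaf.Sheafification
import Mathlib.Topology.Sheaves.Sheafify
import Mathlib.LinearAlgebra.Finsupp.Supported
import Mathlib.LinearAlgebra.Finsupp.LinearCombination

/-!
# A flat cover of a sheaf of modules over a sheaf of algebras
-/

set_option autoImplicit false
set_option backward.isDefEq.respectTransparency false
set_option backward.isDefEq.respectTransparency.types false

universe u

open CategoryTheory CategoryTheory.Limits AlgebraicGeometry Opposite TopologicalSpace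

namespace Groth.Agent.OrdSurf29

variable {X : Scheme.{u}} {A : Sheaf (Opens.grothendieckTopology X) RingCat.{u}} (M : SheafOfModules.{u} A)

/-- The index of the free cover. -/
abbrev Idx : Type u := Σ V : Opens X, M.val.obj (op V)

/-- The sections of the free cover. -/
noncomputable abbrev fpMod (U : (Opens X)ᵒᵖ) : Submodule (A.obj.obj U) (Idx M →₀ A.obj.obj U) :=
  Finsupp.supported (A.obj.obj U) (A.obj.obj U) {i | U.unop ≤ i.1}

theorem mem_fpMod {U : (Opens X)ᵒᵖ} {s : Idx M →₀ A.obj.obj U} :
    s ∈ fpMod M U ↔ ∀ i, s i ≠ 0 → U.unop ≤ i.1 := by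
  rw [Finsupp.mem_supported]
  exact ⟨fun h i hi => h (Finsupp.mem_support_iff.2 hi), fun h i hi => h i (Finsupp.mem_support_iff.1 hi)⟩

/-- The restriction maps of the free cover. -/
noncomputable def fpMap {U V : (Opens X)ᵒᵖ} (f : U ⟶ V) : fpMod M U →+ fpMod M V where
  toFun s := ⟨Finsupp.mapRange.addMonoidHom (A.obj.map f).hom.toAddMonoidHom s.1, (mem_fpMod M).2 fun i hi => by
    refine f.unop.le.trans ((mem_fpMod M).1 s.2 i fun h => hi ?_)
    show (A.obj.map f).hom (s.1 i) = 0
    rw [h, map_zero]⟩
  map_zero' := Subtype.ext (map_zero _)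
  map_add' s t := Subtype.ext (map_add _ _ _)

theorem fpMap_apply {U V : (Opens X)ᵒᵖ} (f : U ⟶ V) (s : fpMod M U) (i : Idx M) :
    (fpMap M f s).1 i = (A.obj.map f).hom (s.1 i) := rfl

/-- The free cover as an abelian presheaf. -/
noncomputable def fpAb : (Opens X)ᵒᵖ ⥤ Ab.{u} where
  obj U := AddCommGrpCat.of (fpMod M U)
  map f := AddCommGrpCat.ofHom (fpMap M f)
  map_id U := ConcreteCategory.hom_ext _ _ fun s => Subtype.ext (Finsupp.ext fun i => by
    show (fpMap M (𝟙 U) s).1 i = s.1 i
    rw [fpMap_apply, CategoryTheory.Functor.map_id]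
    rfl)
  map_comp f g := ConcreteCategory.hom_ext _ _ fun s => Subtype.ext (Finsupp.ext fun i => by
    show (fpMap M (f ≫ g) s).1 i = (fpMap M g (fpMap M f s)).1 i
    rw [fpMap_apply, fpMap_apply, fpMap_apply, CategoryTheory.Functor.map_comp]
    rfl)

noncomputable instance (U : (Opens X)ᵒᵖ) : Module (A.obj.obj U) ((fpAb M).obj U) :=
  inferInstanceAs (Module (A.obj.obj U) (fpMod M U))

/-- The free cover as a presheaf of modules. -/
noncomputable def fp : PresheafOfModules.{u} A.obj :=
  PresheafOfModules.ofPresheaf (fpAb M) fun {U V} f r (m : fpMod M U) => by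
    refine Subtype.ext (Finsupp.ext fun i => ?_)
    show (fpMap M f (r • m)).1 i = (A.obj.map f r • fpMap M f m : fpMod M V).1 i
    show (A.obj.map f).hom (r * m.1 i) = A.obj.map f r * (A.obj.map f).hom (m.1 i)
    exact map_mul (A.obj.map f).hom _ _

open scoped Classical in
/-- The images of the generators. -/
noncomputable def gen (U : (Opens X)ᵒᵖ) (i : Idx M) : M.val.obj U :=
  if h : U.unop ≤ i.1 then M.val.map (homOfLE h).op i.2 else 0

theorem gen_res {U V : (Opens X)ᵒᵖ} (f : U ⟶ V) (i : Idx M) (h : U.unop ≤ i.1) :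
    M.val.map f (gen M U i) = gen M V i := by
  unfold gen
  rw [dif_pos h, dif_pos (f.unop.le.trans h), ← PresheafOfModules.map_comp_apply]
  rfl

/-- The map from the free cover. -/
noncomputable def fpToM : fp M ⟶ M.val :=
  PresheafOfModules.homMk
    { app := fun U => AddCommGrpCat.ofHom
        ((Finsupp.linearCombination (A.obj.obj U) (gen M U)).comp (fpMod M U).subtype).toAddMonoidHom
      naturality := fun U V f => ConcreteCategory.hom_ext _ _ fun s => by
        obtain ⟨t, ht⟩ := (show fpMod M U from s)
        show Finsupp.linearCombination (A.obj.obj V) (gen M V) (fpMap M f ⟨t, ht⟩).1 =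
          M.val.map f (Finsupp.linearCombination (A.obj.obj U) (gen M U) t)
        show Finsupp.linearCombination (A.obj.obj V) (gen M V) (Finsupp.mapRange (A.obj.map f).hom
          (map_zero (A.obj.map f).hom) t) = _
        refine (Finsupp.linearCombination_apply _ _).trans ?_
        refine (Finsupp.sum_mapRange_index (fun i => zero_smul (A.obj.obj V) (gen M V i))).trans ?_
        refine Eq.trans ?_ ((congrArg (M.val.presheaf.map f).hom (Finsupp.linearCombination_apply _ _)).trans
          (map_finsuppSum (M.val.presheaf.map f).hom t _)).symm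
        refine Finsupp.sum_congr fun i hi => ?_
        show _ = M.val.map f (t i • gen M U i)
        rw [PresheafOfModules.map_smul, gen_res M f i ((mem_fpMod M).1 ht i (Finsupp.mem_support_iff.1 hi))] }
    fun U r m => by
      exact map_smul ((Finsupp.linearCombination (A.obj.obj U) (gen M U)).comp (fpMod M U).subtype) r m

theorem fpToM_surjective (U : (Opens X)ᵒᵖ) : Function.Surjective ((fpToM M).app U) := fun m => by
  classical
  refine ⟨(⟨Finsupp.single (⟨U.unop, m⟩ : Idx M) 1, (mem_fpMod M).2 fun i hi => ?_⟩ : fpMod M U), ?_⟩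
  · rw [Finsupp.single_apply] at hi
    by_cases h : (⟨U.unop, m⟩ : Idx M) = i
    · subst h; exact le_rfl
    · rw [if_neg h] at hi; exact absurd rfl hi
  · show Finsupp.linearCombination (A.obj.obj U) (gen M U) (Finsupp.single (⟨U.unop, m⟩ : Idx M) 1) = m
    rw [Finsupp.linearCombination_single, one_smul]
    unfold gen
    rw [dif_pos le_rfl]
    show M.val.presheaf.map (𝟙 U) m = m
    rw [CategoryTheory.Functor.map_id]
    rfl

/-- The flat cover. -/
noncomputable def flatCover : SheafOfModules.{u} A := (PresheafOfModules.sheafification (𝟙 A.obj)).obj (fp M)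

/-- The projection from the flat cover. -/
noncomputable def flatCoverπ : flatCover M ⟶ M :=
  (PresheafOfModules.sheafification (𝟙 A.obj)).map
      (show fp M ⟶ (PresheafOfModules.restrictScalars (𝟙 A.obj)).obj M.val from fpToM M) ≫
    (PresheafOfModules.sheafificationAdjunction (𝟙 A.obj)).counit.app M

theorem epi_flatCoverπ : Epi (flatCoverπ M) := by
  haveI : Epi (show fp M ⟶ (PresheafOfModules.restrictScalars (𝟙 A.obj)).obj M.val from fpToM M) :=
    PresheafOfModules.epi_of_surjective (fpToM_surjective M)
  exact epi_comp _ _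

section stalk

variable (x : X)

/-- Germs of the free cover. -/
noncomputable abbrev gP {U : Opens X} (hx : x ∈ U) (s : fpMod M (op U)) :
    ↑(TopCat.Presheaf.stalk (X := X.toPresheafedSpace.carrier) (fp M).presheaf x) :=
  TopCat.Presheaf.germ (X := X.toPresheafedSpace.carrier) (fp M).presheaf U x hx s

/-- The indices at a point. -/
abbrev IdxAt : Type u := {i : Idx M // x ∈ i.1}

/-- The germ of a generator. -/
noncomputable def bP (i : IdxAt M x) :
    ↑(TopCat.Presheaf.stalk (X := X.toPresheafedSpace.carrier) (fp M).presheaf x) :=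
  gP M x i.2 ⟨Finsupp.single i.1 1, (mem_fpMod M).2 fun j hj => by
    classical
    rw [Finsupp.single_apply] at hj
    by_cases h : i.1 = j
    · subst h; exact le_rfl
    · rw [if_neg h] at hj; exact absurd rfl hj⟩

noncomputable instance : Module (stk A x)
    ↑(TopCat.Presheaf.stalk (X := X.toPresheafedSpace.carrier) (fp M).presheaf x) :=
  inferInstanceAs (Module (TopCat.Presheaf.stalk (X := X.toPresheafedSpace.carrier) (C := RingCat.{u}) A.obj x)
    ↑(TopCat.Presheaf.stalk (X := X.toPresheafedSpace.carrier) (fp M).presheaf x))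

theorem gP_smul {U : Opens X} (hx : x ∈ U) (a : A.obj.obj (op U)) (s : fpMod M (op U)) :
    gP M x hx (a • s) = gA A x hx a • gP M x hx s :=
  PresheafOfModules.germ_ringCat_smul (X := X.toPresheafedSpace.carrier) (fp M) x U hx a s

theorem gP_single {U : Opens X} (hx : x ∈ U) (i : Idx M) (hi : U ≤ i.1) (a : A.obj.obj (op U))
    (hm : Finsupp.single i a ∈ fpMod M (op U)) :
    gP M x hx ⟨Finsupp.single i a, hm⟩ = gA A x hx a • bP M x ⟨i, hi hx⟩ := by
  have h1 : Finsupp.single i (1 : A.obj.obj (op U)) ∈ fpMod M (op U) :=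
    Finsupp.single_mem_supported (A.obj.obj (op U)) 1 hi
  have hb : bP M x ⟨i, hi hx⟩ = gP M x hx ⟨Finsupp.single i (1 : A.obj.obj (op U)), h1⟩ := by
    refine (TopCat.Presheaf.germ_res_apply (X := X.toPresheafedSpace.carrier) (fp M).presheaf
      (homOfLE hi) x hx _).symm.trans (congrArg (gP M x hx) (Subtype.ext ?_))
    show Finsupp.mapRange (A.obj.map (homOfLE hi).op).hom (map_zero (A.obj.map (homOfLE hi).op).hom)
      (Finsupp.single i 1) = _
    rw [Finsupp.mapRange_single]
    exact congrArg (Finsupp.single i) (map_one (A.obj.map (homOfLE hi).op).hom)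
  rw [hb, ← gP_smul]
  refine congrArg (gP M x hx) (Subtype.ext ?_)
  show Finsupp.single i a = a • Finsupp.single i 1
  rw [Finsupp.smul_single, smul_eq_mul, mul_one]

/-- The coordinates of germs. -/
noncomputable def coords :
    ↑(TopCat.Presheaf.stalk (X := X.toPresheafedSpace.carrier) (fp M).presheaf x) →+ (Idx M →₀ stk A x) :=
  (colimit.desc ((OpenNhds.inclusion x).op ⋙ (fp M).presheaf)
    { pt := AddCommGrpCat.of (Idx M →₀ stk A x)
      ι :=
        { app := fun U => AddCommGrpCat.ofHom
            ((Finsupp.mapRange.addMonoidHom (gA A x U.unop.2).toAddMonoidHom).comp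
              (fpMod M (op U.unop.1)).subtype.toAddMonoidHom)
          naturality := fun U V f => by
            ext s
            refine Finsupp.ext fun i => ?_
            exact gA_res (leOfHom ((OpenNhds.inclusion x).map f.unop)) x V.unop.2 _ } }).hom

theorem coords_gP {U : Opens X} (hx : x ∈ U) (s : fpMod M (op U)) :
    coords M x (gP M x hx s) = Finsupp.mapRange (gA A x hx) (map_zero _) s.1 :=
  ConcreteCategory.congr_hom (colimit.ι_desc (F := (OpenNhds.inclusion x).op ⋙ (fp M).presheaf) _
    (op ⟨U, hx⟩)) s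

/-- The combination of germs of generators. -/
noncomputable def comb : (IdxAt M x →₀ stk A x) →ₗ[stk A x]
    ↑(TopCat.Presheaf.stalk (X := X.toPresheafedSpace.carrier) (fp M).presheaf x) :=
  Finsupp.linearCombination (stk A x) (bP M x)

theorem coords_comb (t : IdxAt M x →₀ stk A x) (i : IdxAt M x) : coords M x (comb M x t) i.1 = t i := by
  classical
  induction t using Finsupp.induction_linear with
  | zero => simp
  | add f g hf hg => simp [hf, hg]
  | single j a =>
    obtain ⟨U, hU, s, rfl⟩ := exists_gA x a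
    let W := U ⊓ j.1.1
    have hW : x ∈ W := ⟨hU, j.2⟩
    have hm : Finsupp.single j.1 (A.obj.map (homOfLE (inf_le_left : W ≤ U)).op s) ∈ fpMod M (op W) :=
      Finsupp.single_mem_supported (A.obj.obj (op W)) _ (show W ≤ j.1.1 from inf_le_right)
    have := gP_single M x hW j.1 inf_le_right _ hm
    rw [gA_res] at this
    show coords M x (Finsupp.linearCombination (stk A x) (bP M x) (Finsupp.single j _)) i.1 = _
    rw [Finsupp.linearCombination_single, ← this, coords_gP, Finsupp.mapRange_single, gA_res,
      Finsupp.single_apply, Finsupp.single_apply]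
    simp only [Subtype.coe_inj]

theorem bijective_comb : Function.Bijective (comb M x) := by
  classical
  refine ⟨fun s t h => Finsupp.ext fun i => by rw [← coords_comb M x s i, ← coords_comb M x t i, h], fun v => ?_⟩
  obtain ⟨U, hU, s, rfl⟩ := TopCat.Presheaf.exists_germ_eq (X := X.toPresheafedSpace.carrier)
    (fp M).presheaf (x := x) v
  obtain ⟨f, hf⟩ := (show fpMod M (op U) from s)
  suffices ∀ (f : Idx M →₀ A.obj.obj (op U)) (hf : f ∈ fpMod M (op U)),
      gP M x hU ⟨f, hf⟩ ∈ LinearMap.range (comb M x) by exact this _ _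
  intro f
  induction f using Finsupp.induction with
  | zero =>
    intro hf
    rw [show (⟨0, hf⟩ : fpMod M (op U)) = 0 from rfl]
    rw [show gP M x hU (0 : fpMod M (op U)) = 0 from
      map_zero (TopCat.Presheaf.germ (X := X.toPresheafedSpace.carrier) (fp M).presheaf U x hU).hom]
    exact zero_mem _
  | single_add i a f hif ha ih =>
    intro hf
    have hi : U ≤ i.1 := (mem_fpMod M).1 hf i (by
      rw [Finsupp.add_apply, Finsupp.single_eq_same, Finsupp.notMem_support_iff.1 hif, add_zero]; exact ha)
    have h1 : Finsupp.single i a ∈ fpMod M (op U) := Finsupp.single_mem_supported (A.obj.obj (op U)) a hi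
    have h2 : f ∈ fpMod M (op U) := (Submodule.add_mem_iff_right _ h1).1 hf
    rw [show (⟨Finsupp.single i a + f, hf⟩ : fpMod M (op U)) = ⟨_, h1⟩ + ⟨_, h2⟩ from rfl]
    rw [show gP M x hU (⟨_, h1⟩ + ⟨_, h2⟩ : fpMod M (op U)) = gP M x hU ⟨_, h1⟩ + gP M x hU ⟨_, h2⟩ from
      map_add (TopCat.Presheaf.germ (X := X.toPresheafedSpace.carrier) (fp M).presheaf U x hU).hom _ _,
      gP_single M x hU i hi a h1]
    refine add_mem ⟨Finsupp.single ⟨i, hi hU⟩ (gA A x hU a), ?_⟩ (ih h2)
    exact Finsupp.linearCombination_single _ _ _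

variable (φ : X.ringCatSheaf ⟶ A)

/-- The stalk of the unit. -/
noncomputable def unitStalk :
    ↑(TopCat.Presheaf.stalk (X := X.toPresheafedSpace.carrier) (fp M).presheaf x) →+
      ↑((R φ (flatCover M)).presheaf.stalk x) :=
  ((TopCat.Presheaf.stalkFunctor Ab.{u} (X := X.toPresheafedSpace.carrier) x).map
    (CategoryTheory.toSheafify (Opens.grothendieckTopology X) (fp M).presheaf)).hom

theorem bijective_unitStalk : Function.Bijective (unitStalk M x φ) := by
  haveI := TopCat.Presheaf.stalkFunctor_map_unit_toSheafify_isIso (X := X.toPresheafedSpace.carrier) x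
    AddCommGrpCat.{u} (fp M).presheaf
  exact (ConcreteCategory.isIso_iff_bijective _).1 this

theorem unitStalk_gP {U : Opens X} (hx : x ∈ U) (s : fpMod M (op U)) :
    unitStalk M x φ (gP M x hx s) = gM φ (flatCover M) x hx
      (((PresheafOfModules.sheafificationAdjunction (𝟙 A.obj)).unit.app (fp M)).app (op U) s) :=
  TopCat.Presheaf.stalkFunctor_map_germ_apply (X := X.toPresheafedSpace.carrier) U x hx
    (CategoryTheory.toSheafify (Opens.grothendieckTopology X) (fp M).presheaf) s

theorem unitStalk_smul (a : stk A x)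
    (v : ↑(TopCat.Presheaf.stalk (X := X.toPresheafedSpace.carrier) (fp M).presheaf x)) :
    unitStalk M x φ (a • v) = a • unitStalk M x φ v := by
  obtain ⟨U, hU, r, rfl⟩ := exists_gA x a
  obtain ⟨V, hV, s, rfl⟩ := TopCat.Presheaf.exists_germ_eq (X := X.toPresheafedSpace.carrier)
    (fp M).presheaf (x := x) v
  let W := U ⊓ V
  have hW : x ∈ W := ⟨hU, hV⟩
  rw [← gA_res (inf_le_left : W ≤ U) x hW r,
    show TopCat.Presheaf.germ (X := X.toPresheafedSpace.carrier) (fp M).presheaf V x hV s =
      gP M x hW (fpMap M (homOfLE (inf_le_right : W ≤ V)).op s) from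
      (TopCat.Presheaf.germ_res_apply (X := X.toPresheafedSpace.carrier) (fp M).presheaf
        (homOfLE (inf_le_right : W ≤ V)) x hW s).symm, ← gP_smul, unitStalk_gP, unitStalk_gP, ← gM_smul]
  refine congrArg (gM φ (flatCover M) x hW) ?_
  exact map_smul (((PresheafOfModules.sheafificationAdjunction (𝟙 A.obj)).unit.app (fp M)).app (op W)).hom _ _

end stalk

variable (φ : X.ringCatSheaf ⟶ A)
  (hcen : ∀ (U : (Opens X)ᵒᵖ) (s : X.ringCatSheaf.obj.obj U) (a : A.obj.obj U),
    φ.hom.app U s * a = a * φ.hom.app U s)

include hcen in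
theorem isFlat_flatCover (hA : FlatMod.IsFlat (X := X) (R φ (SheafOfModules.unit A))) :
    FlatMod.IsFlat (X := X) (R φ (flatCover M)) := fun x => by
  haveI : Module.Flat (X.presheaf.stalk x) (V φ x) := hA x
  haveI : Module.Flat (X.presheaf.stalk x) (StkA φ hcen x) := by
    refine Module.Flat.of_linearEquiv (LinearEquiv.ofBijective
      { toFun := fun a : StkA φ hcen x => (toA φ hcen x).symm a • e1 φ x
        map_add' := fun a b => add_smul ((toA φ hcen x).symm a) ((toA φ hcen x).symm b) _
        map_smul' := fun k a => ?_ } (bijective_smul_e1 φ x))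
    show (psi φ x k * (toA φ hcen x).symm a) • e1 φ x = k • ((toA φ hcen x).symm a • e1 φ x)
    rw [mul_smul, psi_smul]
  let c : (IdxAt M x →₀ StkA φ hcen x) →ₗ[X.presheaf.stalk x] ↑((R φ (flatCover M)).presheaf.stalk x) :=
    { toFun := fun t => unitStalk M x φ (comb M x (show IdxAt M x →₀ stk A x from t))
      map_add' := fun s t => (congrArg (unitStalk M x φ) (map_add (comb M x) _ _)).trans (map_add _ _ _)
      map_smul' := fun k t => by
        rw [RingHom.id_apply, ← psi_smul φ (flatCover M) x k, ← unitStalk_smul, ← map_smul]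
        refine congrArg (fun z => unitStalk M x φ (comb M x z)) (Finsupp.ext fun i => ?_)
        exact Algebra.smul_def k (t i) }
  have hc : Function.Bijective c := (bijective_unitStalk M x φ).comp (bijective_comb M x)
  haveI : Module.Flat (X.presheaf.stalk x) (IdxAt M x →₀ StkA φ hcen x) := by
    classical exact Module.Flat.of_linearEquiv (finsuppLEquivDirectSum (X.presheaf.stalk x) (StkA φ hcen x) (IdxAt M x))
  exact Module.Flat.of_linearEquiv (LinearEquiv.ofBijective c hc).symm

end Groth.Agent.OrdSurf29
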