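import Groth.Prelude.Def_FlatMod2
import Groth.Agent.CAlgH3.LocFreeFactor
import Groth.Agent.Props12.FinLocFree
import Groth.Agent.S0485
import Mathlib.Algebra.Category.ModuleCat.Sheaf.ChangeOfRings
import Mathlib.Algebra.Category.ModuleCat.Stalk
import Mathlib.Topology.Sheaves.Stalks
import Mathlib.Topology.Sheaves.SheafCondition.UniqueGluing
import Mathlib.RingTheory.Flat.Basic

/-!
# Coinduced Godement sheaves over a sheaf of algebras
-/

set_option autoImplicit false
set_option backward.isDefEq.respectTransparency false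
set_option backward.isDefEq.respectTransparency.types false

universe u

open CategoryTheory CategoryTheory.Limits AlgebraicGeometry Opposite TopologicalSpace TensorProduct

namespace Groth.Agent.OrdSurf29

variable {X : Scheme.{u}}

section gdm

variable {A : Sheaf (Opens.grothendieckTopology X) RingCat.{u}}

/-- The stalk ring. -/
noncomputable abbrev stk (A : Sheaf (Opens.grothendieckTopology X) RingCat.{u}) (x : X) : RingCat.{u} :=
  TopCat.Presheaf.stalk (X := X.toPresheafedSpace.carrier) (C := RingCat.{u}) A.obj x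

/-- The germ of a scalar. -/
noncomputable abbrev gA (A : Sheaf (Opens.grothendieckTopology X) RingCat.{u}) {U : Opens X} (x : X)
    (hx : x ∈ U) : A.obj.obj (op U) →+* stk A x :=
  (TopCat.Presheaf.germ (X := X.toPresheafedSpace.carrier) (C := RingCat.{u}) A.obj U x hx).hom

variable (W : X → Type u) [∀ x, AddCommGroup (W x)] [∀ x, Module (stk A x) (W x)]

/-- Families of elements. -/
def gdmAb : (Opens X)ᵒᵖ ⥤ Ab.{u} where
  obj U := AddCommGrpCat.of (∀ x : U.unop, W x)
  map i := AddCommGrpCat.ofHom
    { toFun := fun t x => t ⟨x, i.unop.le x.2⟩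
      map_zero' := rfl
      map_add' := fun _ _ => rfl }

noncomputable instance (U : (Opens X)ᵒᵖ) : Module (A.obj.obj U) ((gdmAb W).obj U) :=
  letI : ∀ x : U.unop, Module (A.obj.obj U) (W x) := fun x =>
    Module.compHom (W x) (gA A (x : X) x.2)
  inferInstanceAs (Module (A.obj.obj U) (∀ x : U.unop, W x))

/-- The presheaf of modules of families. -/
noncomputable def gdmP : PresheafOfModules.{u} A.obj :=
  PresheafOfModules.ofPresheaf (gdmAb W) fun {U V} f r m => by
    refine funext fun x => ?_
    show gA A (x : X) (f.unop.le x.2) r • (show W (x : X) from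
        (show ∀ y : U.unop, W y from m) ⟨x, f.unop.le x.2⟩) =
      gA A (x : X) x.2 (A.obj.map f r) • (show W (x : X) from
        (show ∀ y : U.unop, W y from m) ⟨x, f.unop.le x.2⟩)
    congr 1
    exact (TopCat.Presheaf.germ_res_apply (X := X.toPresheafedSpace.carrier) A.obj f.unop (x : X) x.2 r).symm

theorem isSheaf_gdmAb : Presheaf.IsSheaf (Opens.grothendieckTopology X) (gdmAb W) := by
  refine (TopCat.Presheaf.isSheaf_iff_isSheafUniqueGluing (X := X.toPresheafedSpace.carrier)
    (gdmAb W)).2 fun ι U sf hsf => ?_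
  have hmem : ∀ x : (iSup U : Opens X), ∃ i, (x : X) ∈ U i := fun x => Opens.mem_iSup.1 x.2
  choose i hi using hmem
  refine ⟨fun x => sf (i x) ⟨x, hi x⟩, fun j => funext fun y => ?_, fun t ht => funext fun x => ?_⟩
  · have := congrFun (hsf (i ⟨y, le_iSup U j y.2⟩) j) ⟨y, hi ⟨y, le_iSup U j y.2⟩, y.2⟩
    exact this
  · exact congrFun (ht (i x)) ⟨x, hi x⟩

/-- The sheaf of modules of families. -/
noncomputable def gdm : SheafOfModules.{u} A where
  val := gdmP W
  isSheaf := isSheaf_gdmAb W

end gdm

section stalk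

variable {A : Sheaf (Opens.grothendieckTopology X) RingCat.{u}} (φ : X.ringCatSheaf ⟶ A)

/-- The module over the structure sheaf. -/
noncomputable abbrev R (M : SheafOfModules.{u} A) : X.Modules :=
  (SheafOfModules.restrictScalars φ).obj M

/-- The germ of a section. -/
noncomputable abbrev gM (M : SheafOfModules.{u} A) {U : Opens X} (x : X) (hx : x ∈ U)
    (s : M.val.obj (op U)) : ↑((R φ M).presheaf.stalk x) :=
  TopCat.Presheaf.germ (X := X.toPresheafedSpace.carrier) (R φ M).presheaf U x hx s

noncomputable instance (M : SheafOfModules.{u} A) (x : X) :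
    Module (stk A x) ↑((R φ M).presheaf.stalk x) :=
  inferInstanceAs (Module (TopCat.Presheaf.stalk (X := X.toPresheafedSpace.carrier) (C := RingCat.{u}) A.obj x)
    ↑(TopCat.Presheaf.stalk (X := X.toPresheafedSpace.carrier) M.val.presheaf x))

theorem gM_smul (M : SheafOfModules.{u} A) {U : Opens X} (x : X) (hx : x ∈ U) (a : A.obj.obj (op U))
    (s : M.val.obj (op U)) : gM φ M x hx (a • s) = gA A x hx a • gM φ M x hx s :=
  PresheafOfModules.germ_ringCat_smul (X := X.toPresheafedSpace.carrier) M.val x U hx a s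

/-- The comparison of the scalar actions on germs. -/
theorem smul_gM (M : SheafOfModules.{u} A) {U : Opens X} (x : X) (hx : x ∈ U) (r : Γ(X, U))
    (s : M.val.obj (op U)) :
    X.presheaf.germ U x hx r • gM φ M x hx s = gA A x hx (φ.hom.app (op U) r) • gM φ M x hx s := by
  rw [← gM_smul]
  exact (PresheafOfModules.germ_smul (X := X.toPresheafedSpace.carrier) (R := X.presheaf)
    (R φ M).val x U hx r (show (R φ M).val.obj (op U) from s)).symm

theorem exists_gM (M : SheafOfModules.{u} A) (x : X) (m : ↑((R φ M).presheaf.stalk x)) :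
    ∃ (U : Opens X) (hx : x ∈ U) (s : M.val.obj (op U)), gM φ M x hx s = m := by
  obtain ⟨U, hU, s, hs⟩ := TopCat.Presheaf.exists_germ_eq (X := X.toPresheafedSpace.carrier)
    (R φ M).presheaf (x := x) m
  exact ⟨U, hU, s, hs⟩

theorem gA_res {U V : Opens X} (i : V ≤ U) (x : X) (hx : x ∈ V) (a : A.obj.obj (op U)) :
    gA A x hx (A.obj.map (homOfLE i).op a) = gA A x (i hx) a :=
  TopCat.Presheaf.germ_res_apply (X := X.toPresheafedSpace.carrier) A.obj (homOfLE i) x hx a

theorem exists_gA (x : X) (a : stk A x) :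
    ∃ (U : Opens X) (hx : x ∈ U) (s : A.obj.obj (op U)), gA A x hx s = a := by
  obtain ⟨U, hU, s, hs⟩ := TopCat.Presheaf.exists_germ_eq (X := X.toPresheafedSpace.carrier)
    A.obj (x := x) a
  exact ⟨U, hU, s, hs⟩

/-- The stalk at `x` of `A` as a module. -/
noncomputable abbrev V (x : X) := ↑((R φ (SheafOfModules.unit A)).presheaf.stalk x)

/-- The unit of the stalk. -/
noncomputable def e1 (x : X) : V φ x := gM φ (SheafOfModules.unit A) x (U := ⊤) trivial (1 : A.obj.obj (op ⊤))

theorem gA_smul_e1 {U : Opens X} (x : X) (hx : x ∈ U) (a : A.obj.obj (op U)) :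
    gA A x hx a • e1 φ x = gM φ (SheafOfModules.unit A) x hx a := by
  have h1 : e1 φ x = gM φ (SheafOfModules.unit A) x hx (1 : A.obj.obj (op U)) := by
    refine Eq.trans ?_ (congrArg (gM φ (SheafOfModules.unit A) x hx)
      (map_one (A.obj.map (homOfLE (le_top : U ≤ ⊤)).op).hom))
    exact (TopCat.Presheaf.germ_res_apply (X := X.toPresheafedSpace.carrier)
      (R φ (SheafOfModules.unit A)).presheaf (homOfLE (le_top : U ≤ ⊤)) x hx
      (show (R φ (SheafOfModules.unit A)).presheaf.obj (op ⊤) from (1 : A.obj.obj (op ⊤)))).symm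
  rw [h1, ← gM_smul]
  exact congrArg (gM φ (SheafOfModules.unit A) x hx) (mul_one a)

theorem bijective_smul_e1 (x : X) : Function.Bijective (fun a : stk A x => a • e1 φ x) := by
  constructor
  · intro a b h
    obtain ⟨U, hU, s, rfl⟩ := exists_gA x a
    obtain ⟨U', hU', t, rfl⟩ := exists_gA x b
    simp only [gA_smul_e1] at h
    obtain ⟨W, hW, i, j, he⟩ := TopCat.Presheaf.germ_eq (X := X.toPresheafedSpace.carrier)
      (R φ (SheafOfModules.unit A)).presheaf x hU hU'
      (show (R φ (SheafOfModules.unit A)).presheaf.obj (op U) from s)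
      (show (R φ (SheafOfModules.unit A)).presheaf.obj (op U') from t) h
    have he' : A.obj.map i.op s = A.obj.map j.op t := he
    rw [← gA_res i.le x hW s, ← gA_res j.le x hW t]
    exact congrArg (gA A x hW) he'
  · intro v
    obtain ⟨U, hU, s, rfl⟩ := exists_gM φ (SheafOfModules.unit A) x v
    exact ⟨gA A x hU s, gA_smul_e1 φ x hU s⟩

/-- The stalk of `φ`. -/
noncomputable def psiFun (x : X) (k : X.presheaf.stalk x) : stk A x :=
  (Equiv.ofBijective _ (bijective_smul_e1 φ x)).symm (k • e1 φ x)

theorem psiFun_germ {U : Opens X} (x : X) (hx : x ∈ U) (r : Γ(X, U)) :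
    psiFun φ x (X.presheaf.germ U x hx r) = gA A x hx (φ.hom.app (op U) r) := by
  unfold psiFun
  rw [Equiv.symm_apply_eq]
  show _ = gA A x hx (φ.hom.app (op U) r) • e1 φ x
  have h1 : e1 φ x = gA A x hx 1 • e1 φ x := by rw [map_one, one_smul]
  rw [h1, gA_smul_e1, smul_gM]

theorem phi_res {U V : Opens X} (i : V ≤ U) (r : Γ(X, U)) :
    A.obj.map (homOfLE i).op (φ.hom.app (op U) r) = φ.hom.app (op V) (X.presheaf.map (homOfLE i).op r) :=
  (ConcreteCategory.congr_hom (φ.hom.naturality (homOfLE i).op) r).symm

theorem exists_germ_pair (x : X) (k l : X.presheaf.stalk x) :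
    ∃ (U : X.Opens) (hx : x ∈ U) (r s : Γ(X, U)), X.presheaf.germ U x hx r = k ∧ X.presheaf.germ U x hx s = l := by
  obtain ⟨U, hU, r, rfl⟩ := X.presheaf.exists_germ_eq k
  obtain ⟨U', hU', s, rfl⟩ := X.presheaf.exists_germ_eq l
  refine ⟨U ⊓ U', ⟨hU, hU'⟩, X.presheaf.map (homOfLE inf_le_left).op r,
    X.presheaf.map (homOfLE inf_le_right).op s, ?_, ?_⟩
  · exact X.presheaf.germ_res_apply (homOfLE (inf_le_left : U ⊓ U' ≤ U)) x ⟨hU, hU'⟩ r
  · exact X.presheaf.germ_res_apply (homOfLE (inf_le_right : U ⊓ U' ≤ U')) x ⟨hU, hU'⟩ s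

/-- The stalk of `φ` as a ring map. -/
noncomputable def psi (x : X) : X.presheaf.stalk x →+* stk A x where
  toFun := psiFun φ x
  map_one' := by
    rw [← map_one (X.presheaf.germ ⊤ x trivial).hom, psiFun_germ]
    exact (congrArg (gA A x (U := ⊤) trivial) (map_one (φ.hom.app (op ⊤)).hom)).trans (map_one _)
  map_zero' := by
    rw [← map_zero (X.presheaf.germ ⊤ x trivial).hom, psiFun_germ]
    exact (congrArg (gA A x (U := ⊤) trivial) (map_zero (φ.hom.app (op ⊤)).hom)).trans (map_zero _)
  map_mul' k l := by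
    obtain ⟨U, hx, r, s, rfl, rfl⟩ := exists_germ_pair x k l
    rw [← map_mul, psiFun_germ, psiFun_germ, psiFun_germ, ← map_mul]
    exact congrArg (gA A x hx) (map_mul (φ.hom.app (op U)).hom r s)
  map_add' k l := by
    obtain ⟨U, hx, r, s, rfl, rfl⟩ := exists_germ_pair x k l
    rw [← map_add, psiFun_germ, psiFun_germ, psiFun_germ, ← map_add]
    exact congrArg (gA A x hx) (map_add (φ.hom.app (op U)).hom r s)

theorem psi_smul (M : SheafOfModules.{u} A) (x : X) (k : X.presheaf.stalk x)
    (m : ↑((R φ M).presheaf.stalk x)) : psi φ x k • m = k • m := by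
  obtain ⟨U, hU, s, rfl⟩ := exists_gM φ M x m
  obtain ⟨U', hU', r, rfl⟩ := X.presheaf.exists_germ_eq k
  let W : X.Opens := U ⊓ U'
  have hW : x ∈ W := ⟨hU, hU'⟩
  have hr := X.presheaf.germ_res_apply (homOfLE (inf_le_right : W ≤ U')) x hW r
  have hs : gM φ M x hW (M.val.map (homOfLE (inf_le_left : W ≤ U)).op s) = gM φ M x hU s :=
    TopCat.Presheaf.germ_res_apply (X := X.toPresheafedSpace.carrier) (R φ M).presheaf
      (homOfLE (inf_le_left : W ≤ U)) x hW s
  rw [← hr, ← hs]
  show psiFun φ x _ • _ = _
  rw [psiFun_germ, smul_gM]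

section central

variable (hcen : ∀ (U : (Opens X)ᵒᵖ) (s : X.ringCatSheaf.obj.obj U) (a : A.obj.obj U),
  φ.hom.app U s * a = a * φ.hom.app U s)

include hcen in
theorem psi_commutes (x : X) (k : X.presheaf.stalk x) (a : stk A x) : psi φ x k * a = a * psi φ x k := by
  obtain ⟨U, hU, s, rfl⟩ := exists_gA x a
  obtain ⟨U', hU', r, rfl⟩ := X.presheaf.exists_germ_eq k
  let W : X.Opens := U ⊓ U'
  have hW : x ∈ W := ⟨hU, hU'⟩
  have hr := X.presheaf.germ_res_apply (homOfLE (inf_le_right : W ≤ U')) x hW r
  rw [← hr, ← gA_res (inf_le_left : W ≤ U) x hW s]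
  show psiFun φ x _ * _ = _ * psiFun φ x _
  rw [psiFun_germ, ← map_mul, ← map_mul, hcen]

/-- The stalk of `A` as an algebra over the local ring. -/
@[nolint unusedArguments]
def StkA (_φ : X.ringCatSheaf ⟶ A)
    (_hcen : ∀ (U : (Opens X)ᵒᵖ) (s : X.ringCatSheaf.obj.obj U) (a : A.obj.obj U),
      _φ.hom.app U s * a = a * _φ.hom.app U s) (x : X) : Type u := stk A x

noncomputable instance instRingStkA (x : X) : Ring (StkA φ hcen x) := inferInstanceAs (Ring (stk A x))

/-- Elements of the stalk algebra. -/
noncomputable def toA (x : X) : stk A x ≃+* StkA φ hcen x := RingEquiv.refl _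

noncomputable instance (x : X) : Algebra (X.presheaf.stalk x) (StkA φ hcen x) :=
  RingHom.toAlgebra' ((toA φ hcen x).toRingHom.comp (psi φ x)) (psi_commutes φ hcen x)

theorem algebraMap_stkA (x : X) (k : X.presheaf.stalk x) :
    algebraMap (X.presheaf.stalk x) (StkA φ hcen x) k = toA φ hcen x (psi φ x k) := rfl

theorem flat_stk (hA : FlatMod.IsFinLocFree (X := X) (R φ (SheafOfModules.unit A))) (x : X) :
    Module.Flat (X.presheaf.stalk x) (StkA φ hcen x) := by
  haveI : Coh.IsQCoh (R φ (SheafOfModules.unit A)) := Groth.Agent.CAlgH3.LocFreeFactor.isQCoh_of_finLocFree hA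
  haveI : Module.Flat (X.presheaf.stalk x) (V φ x) := Groth.Agent.Props12.isFlat_of_isFinLocFree _ hA x
  refine Module.Flat.of_linearEquiv (LinearEquiv.ofBijective
    { toFun := fun a : StkA φ hcen x => (toA φ hcen x).symm a • e1 φ x
      map_add' := fun a b => add_smul ((toA φ hcen x).symm a) ((toA φ hcen x).symm b) _
      map_smul' := fun k a => ?_ } (bijective_smul_e1 φ x))
  show (psi φ x k * (toA φ hcen x).symm a) • e1 φ x = k • ((toA φ hcen x).symm a • e1 φ x)
  rw [mul_smul, psi_smul]

/-- An injective module containing the stalk. -/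
noncomputable abbrev E (M : SheafOfModules.{u} A) (x : X) : ModuleCat.{u} (X.presheaf.stalk x) :=
  Injective.under (ModuleCat.of (X.presheaf.stalk x) ↑((R φ M).presheaf.stalk x))

/-- The inclusion in the injective module. -/
noncomputable abbrev ιE (M : SheafOfModules.{u} A) (x : X) :
    ↑((R φ M).presheaf.stalk x) →ₗ[X.presheaf.stalk x] E φ M x :=
  (Injective.ι (ModuleCat.of (X.presheaf.stalk x) ↑((R φ M).presheaf.stalk x))).hom

/-- The coinduced module. -/
abbrev CoInd (M : SheafOfModules.{u} A) (x : X) : Type u :=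
  StkA φ hcen x →ₗ[X.presheaf.stalk x] E φ M x

noncomputable instance (M : SheafOfModules.{u} A) (x : X) : Module (stk A x) (CoInd φ hcen M x) where
  smul a f := f.comp (LinearMap.mulRight (X.presheaf.stalk x) (toA φ hcen x a))
  one_smul f := LinearMap.ext fun b => congrArg f (mul_one b)
  mul_smul a a' f := LinearMap.ext fun b => congrArg f (mul_assoc b (toA φ hcen x a) (toA φ hcen x a')).symm
  smul_zero a := LinearMap.ext fun b => rfl
  smul_add a f g := LinearMap.ext fun b => rfl
  add_smul a a' f := LinearMap.ext fun b =>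
    (congrArg f (mul_add b (toA φ hcen x a) (toA φ hcen x a'))).trans (map_add f _ _)
  zero_smul f := LinearMap.ext fun b => (congrArg f (mul_zero b)).trans (map_zero f)

theorem coInd_smul_apply (M : SheafOfModules.{u} A) (x : X) (a : stk A x) (f : CoInd φ hcen M x)
    (b : StkA φ hcen x) : (a • f) b = f (b * toA φ hcen x a) := rfl

/-- The Godement sheaf of coinduced modules. -/
noncomputable def cog (M : SheafOfModules.{u} A) : SheafOfModules.{u} A := gdm (CoInd φ hcen M)

/-- The evaluation at a point of a section. -/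
noncomputable def evalM (M : SheafOfModules.{u} A) (x : X) :
    ↑((R φ M).presheaf.stalk x) →+ CoInd φ hcen M x where
  toFun m :=
    { toFun := fun b => ιE φ M x ((toA φ hcen x).symm b • m)
      map_add' := fun b b' => by rw [map_add, add_smul, map_add]
      map_smul' := fun k b => by
        rw [RingHom.id_apply, ← map_smul]
        congr 1
        show (psi φ x k * (toA φ hcen x).symm b) • m = _
        rw [mul_smul, psi_smul] }
  map_zero' := LinearMap.ext fun b => by
    show ιE φ M x ((toA φ hcen x).symm b • (0 : ↑((R φ M).presheaf.stalk x))) = 0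
    rw [smul_zero, map_zero]
  map_add' m m' := LinearMap.ext fun b => by
    show ιE φ M x ((toA φ hcen x).symm b • (m + m')) =
      ιE φ M x ((toA φ hcen x).symm b • m) + ιE φ M x ((toA φ hcen x).symm b • m')
    rw [smul_add, map_add]

theorem evalM_injective (M : SheafOfModules.{u} A) (x : X) : Function.Injective (evalM φ hcen M x) := by
  intro m m' h
  have h1 : ιE φ M x
      ((toA φ hcen x).symm 1 • m) = ιE φ M x ((toA φ hcen x).symm 1 • m') := LinearMap.congr_fun h 1
  rw [map_one, one_smul, one_smul] at h1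
  exact (ModuleCat.mono_iff_injective (Injective.ι (ModuleCat.of (X.presheaf.stalk x) ↑((R φ M).presheaf.stalk x)))).1 inferInstance h1

theorem evalM_smul (M : SheafOfModules.{u} A) (x : X) (a : stk A x) (m : ↑((R φ M).presheaf.stalk x)) :
    evalM φ hcen M x (a • m) = a • evalM φ hcen M x m := by
  refine LinearMap.ext fun b => ?_
  show ιE φ M x ((toA φ hcen x).symm b • a • m) =
    ιE φ M x (((toA φ hcen x).symm b * a) • m)
  rw [mul_smul]

/-- The embedding. -/
noncomputable def toCog (M : SheafOfModules.{u} A) : M ⟶ cog φ hcen M :=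
  ⟨PresheafOfModules.homMk
    { app := fun U => AddCommGrpCat.ofHom
        { toFun := fun s (x : U.unop) => evalM φ hcen M x (gM φ M (x : X) x.2 s)
          map_zero' := funext fun x => by
            show evalM φ hcen M x (gM φ M (x : X) x.2 0) = 0
            rw [← map_zero (evalM φ hcen M x)]
            exact congrArg _ (map_zero (TopCat.Presheaf.germ (X := X.toPresheafedSpace.carrier)
              (R φ M).presheaf U.unop (x : X) x.2).hom)
          map_add' := fun s t => funext fun x => by
            show evalM φ hcen M x (gM φ M (x : X) x.2 (s + t)) = evalM φ hcen M x _ + evalM φ hcen M x _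
            rw [← map_add]
            exact congrArg _ (map_add (TopCat.Presheaf.germ (X := X.toPresheafedSpace.carrier)
              (R φ M).presheaf U.unop (x : X) x.2).hom _ _) }
      naturality := fun U V i => by
        ext s
        refine funext fun x => ?_
        exact congrArg (evalM φ hcen M x) (TopCat.Presheaf.germ_res_apply
          (X := X.toPresheafedSpace.carrier) (R φ M).presheaf i.unop (x : X) x.2 s) }
    fun U r m => funext fun x => (congrArg (evalM φ hcen M x) (gM_smul φ M (x : X) x.2 r m)).trans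
      (evalM_smul φ hcen M x _ _)⟩

theorem mono_toCog (M : SheafOfModules.{u} A) : Mono (toCog φ hcen M) := by
  haveI : ∀ U, Function.Injective (((PresheafOfModules.toPresheaf A.obj).map (toCog φ hcen M).val).app U).hom :=
    fun U s t h => by
      refine TopCat.Presheaf.section_ext (X := X.toPresheafedSpace.carrier)
        ⟨(R φ M).presheaf, M.isSheaf⟩ U.unop s t fun x hx => ?_
      exact evalM_injective φ hcen M x (congrFun h ⟨x, hx⟩)
  haveI : Mono ((PresheafOfModules.toPresheaf A.obj).map (toCog φ hcen M).val) :=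
    haveI : ∀ U, Mono (((PresheafOfModules.toPresheaf A.obj).map (toCog φ hcen M).val).app U) :=
      fun U => (AddCommGrpCat.mono_iff_injective _).2 (this U)
    NatTrans.mono_of_mono_app _
  haveI : Mono (toCog φ hcen M).val := (PresheafOfModules.toPresheaf A.obj).mono_of_mono_map this
  exact (SheafOfModules.forget A).mono_of_mono_map (show Mono (toCog φ hcen M).val from inferInstance)

end central

end stalk

end Groth.Agent.OrdSurf29
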