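import Groth.Agent.OrdSurf29.Godement
import Groth.Agent.ModStalk.Exact
import Groth.Prelude.Def_DerSch
import Mathlib.LinearAlgebra.TensorProduct.Basic

/-!
# Restriction of scalars of coinduced Godement sheaves is injective
-/

set_option autoImplicit false
set_option backward.isDefEq.respectTransparency false
set_option backward.isDefEq.respectTransparency.types false

universe u

open CategoryTheory CategoryTheory.Limits AlgebraicGeometry Opposite TopologicalSpace TensorProduct

namespace Groth.Agent.OrdSurf29

variable {X : Scheme.{u}} {A : Sheaf (Opens.grothendieckTopology X) RingCat.{u}} (φ : X.ringCatSheaf ⟶ A)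
  (hcen : ∀ (U : (Opens X)ᵒᵖ) (s : X.ringCatSheaf.obj.obj U) (a : A.obj.obj U),
    φ.hom.app U s * a = a * φ.hom.app U s)

theorem psi_smul_coInd (M : SheafOfModules.{u} A) (x : X) (k : X.presheaf.stalk x) (f : CoInd φ hcen M x) :
    psi φ x k • f = k • f := by
  refine LinearMap.ext fun b => ?_
  rw [coInd_smul_apply, ← algebraMap_stkA, LinearMap.smul_apply, ← map_smul, Algebra.smul_def,
    Algebra.commutes]

theorem extend_coInd (hA : FlatMod.IsFinLocFree (X := X) (R φ (SheafOfModules.unit A)))
    (M : SheafOfModules.{u} A) (x : X) {P Q : Type u} [AddCommGroup P] [AddCommGroup Q]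
    [Module (X.presheaf.stalk x) P] [Module (X.presheaf.stalk x) Q]
    (ι : P →ₗ[X.presheaf.stalk x] Q) (hι : Function.Injective ι)
    (g : P →ₗ[X.presheaf.stalk x] CoInd φ hcen M x) :
    ∃ h : Q →ₗ[X.presheaf.stalk x] CoInd φ hcen M x, h.comp ι = g := by
  haveI := flat_stk φ hcen hA x
  let K := X.presheaf.stalk x
  have hinj : Function.Injective (LinearMap.lTensor (StkA φ hcen x) ι) :=
    Module.Flat.lTensor_preserves_injective_linearMap ι hι
  haveI : Injective (ModuleCat.of (X.presheaf.stalk x) ↑(E φ M x)) :=
    Injective.injective_under (ModuleCat.of (X.presheaf.stalk x) ↑((R φ M).presheaf.stalk x))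
  haveI : Mono (ModuleCat.ofHom (LinearMap.lTensor (StkA φ hcen x) ι)) :=
    (ModuleCat.mono_iff_injective _).2 hinj
  let T : StkA φ hcen x ⊗[K] Q →ₗ[K] E φ M x :=
    (Injective.factorThru (ModuleCat.ofHom (TensorProduct.lift g.flip))
      (ModuleCat.ofHom (LinearMap.lTensor (StkA φ hcen x) ι))).hom
  have hT : ∀ b p, T (b ⊗ₜ ι p) = g p b := fun b p => by
    have := ConcreteCategory.congr_hom (Injective.comp_factorThru (ModuleCat.ofHom (TensorProduct.lift g.flip))
      (ModuleCat.ofHom (LinearMap.lTensor (StkA φ hcen x) ι))) (b ⊗ₜ[K] p)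
    rw [ModuleCat.comp_apply] at this
    exact this
  exact ⟨(TensorProduct.curry T).flip, LinearMap.ext fun p => LinearMap.ext fun b => hT b p⟩

theorem injective_R_cog (hA : FlatMod.IsFinLocFree (X := X) (R φ (SheafOfModules.unit A)))
    (M : SheafOfModules.{u} A) : Injective (R φ (cog φ hcen M)) := by
  constructor
  intro P Q f a ha
  have key : ∀ x : X, ∃ g : ↑(P.presheaf.stalk x) →ₗ[X.presheaf.stalk x] CoInd φ hcen M x,
      ∀ (U : X.Opens) (hx : x ∈ U) (s : P.val.obj (op U)),
        g (P.presheaf.germ U x hx s) = (show ∀ y : U, CoInd φ hcen M y from f.val.app (op U) s) ⟨x, hx⟩ := by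
    intro x
    have hres : ∀ (U V : X.Opens) (i : V ≤ U) (hx : x ∈ V) (s : P.val.obj (op U)),
        (show ∀ y : V, CoInd φ hcen M y from f.val.app (op V) (P.presheaf.map (homOfLE i).op s)) ⟨x, hx⟩ =
          (show ∀ y : U, CoInd φ hcen M y from f.val.app (op U) s) ⟨x, i hx⟩ := fun U V i hx s =>
      congrFun (PresheafOfModules.naturality_apply f.val (homOfLE i).op s) ⟨x, hx⟩
    have hwd : ∀ (U V : X.Opens) (hU : x ∈ U) (hV : x ∈ V) (s : P.val.obj (op U)) (t : P.val.obj (op V)),
        P.presheaf.germ U x hU s = P.presheaf.germ V x hV t →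
        (show ∀ y : U, CoInd φ hcen M y from f.val.app (op U) s) ⟨x, hU⟩ =
          (show ∀ y : V, CoInd φ hcen M y from f.val.app (op V) t) ⟨x, hV⟩ := by
      intro U V hU hV s t h
      obtain ⟨W, hW, i, j, he⟩ := TopCat.Presheaf.germ_eq (X := X.toPresheafedSpace.carrier) P.presheaf x
        hU hV s t h
      rw [← hres U W i.le hW s, ← hres V W j.le hW t]
      exact congrArg (fun z : P.val.obj (op W) =>
        (show ∀ y : W, CoInd φ hcen M y from f.val.app (op W) z) ⟨x, hW⟩) he
    choose U hU s hs using fun m : ↑(P.presheaf.stalk x) =>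
      TopCat.Presheaf.exists_germ_eq (X := X.toPresheafedSpace.carrier) P.presheaf (x := x) m
    let g0 : ↑(P.presheaf.stalk x) → CoInd φ hcen M x := fun m =>
      (show ∀ y : U m, CoInd φ hcen M y from f.val.app (op (U m)) (s m)) ⟨x, hU m⟩
    have hg : ∀ (V : X.Opens) (hx : x ∈ V) (t : P.val.obj (op V)), g0 (P.presheaf.germ V x hx t) =
        (show ∀ y : V, CoInd φ hcen M y from f.val.app (op V) t) ⟨x, hx⟩ := fun V hx t =>
      hwd _ _ _ hx _ _ (hs _)
    refine ⟨{ toFun := g0, map_add' := fun m n => ?_, map_smul' := fun k m => ?_ }, hg⟩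
    · let W := U m ⊓ U n
      have hW : x ∈ W := ⟨hU m, hU n⟩
      let sm : P.val.obj (op W) := P.presheaf.map (homOfLE (inf_le_left : W ≤ U m)).op (s m)
      let sn : P.val.obj (op W) := P.presheaf.map (homOfLE (inf_le_right : W ≤ U n)).op (s n)
      have em : P.presheaf.germ W x hW sm = m := (TopCat.Presheaf.germ_res_apply
        (X := X.toPresheafedSpace.carrier) P.presheaf (homOfLE inf_le_left) x hW (s m)).trans (hs m)
      have en : P.presheaf.germ W x hW sn = n := (TopCat.Presheaf.germ_res_apply
        (X := X.toPresheafedSpace.carrier) P.presheaf (homOfLE inf_le_right) x hW (s n)).trans (hs n)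
      rw [← em, ← en, ← map_add, hg W hW sm, hg W hW sn]
      refine (hg W hW (sm + sn)).trans ?_
      exact congrFun (map_add (f.val.app (op W)).hom sm sn) ⟨x, hW⟩
    · obtain ⟨V, hV, r, rfl⟩ := X.presheaf.exists_germ_eq k
      let W := U m ⊓ V
      have hW : x ∈ W := ⟨hU m, hV⟩
      let sm : P.val.obj (op W) := P.presheaf.map (homOfLE (inf_le_left : W ≤ U m)).op (s m)
      let r' : Γ(X, W) := X.presheaf.map (homOfLE (inf_le_right : W ≤ V)).op r
      have em : P.presheaf.germ W x hW sm = m := (TopCat.Presheaf.germ_res_apply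
        (X := X.toPresheafedSpace.carrier) P.presheaf (homOfLE inf_le_left) x hW (s m)).trans (hs m)
      have er : X.presheaf.germ W x hW r' = X.presheaf.germ V x hV r :=
        X.presheaf.germ_res_apply (homOfLE (inf_le_right : W ≤ V)) x hW r
      rw [RingHom.id_apply, ← er, ← em, hg W hW sm]
      have h1 : X.presheaf.germ W x hW r' • P.presheaf.germ W x hW sm =
          P.presheaf.germ W x hW (show P.val.obj (op W) from r' • sm) :=
        (PresheafOfModules.germ_smul (X := X.toPresheafedSpace.carrier) (R := X.presheaf) P.val x W hW r' sm).symm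
      rw [h1, hg W hW _, ← psi_smul_coInd]
      refine (congrFun (map_smul (f.val.app (op W)).hom r' sm) ⟨x, hW⟩).trans ?_
      show _ = psiFun φ x _ • _
      rw [psiFun_germ]
      rfl
  choose g hg using key
  choose h hh using fun x => extend_coInd φ hcen hA M x ((DerSch.stalkFunctor X x).map a).hom
    ((ModuleCat.mono_iff_injective _).1 inferInstance) (g x)
  refine ⟨⟨PresheafOfModules.homMk
    { app := fun U => AddCommGrpCat.ofHom
        { toFun := fun s (y : U.unop) => h y (Q.presheaf.germ U.unop (y : X) y.2 s)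
          map_zero' := funext fun y => by
            show h y (Q.presheaf.germ U.unop (y : X) y.2 0) = 0
            rw [map_zero, map_zero]
          map_add' := fun s t => funext fun y => by
            show h y (Q.presheaf.germ U.unop (y : X) y.2 (s + t)) = h y _ + h y _
            rw [← map_add]
            exact congrArg _ (map_add (Q.presheaf.germ U.unop (y : X) y.2).hom _ _) }
      naturality := fun U V i => by
        ext s
        refine funext fun y => ?_
        exact congrArg (h y) (TopCat.Presheaf.germ_res_apply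
          (X := X.toPresheafedSpace.carrier) Q.presheaf i.unop (y : X) y.2 s) }
    fun U r m => funext fun y => ?_⟩, ?_⟩
  · refine ((congrArg (h y) (PresheafOfModules.germ_smul (X := X.toPresheafedSpace.carrier)
      (R := X.presheaf) Q.val (y : X) U.unop y.2 r m)).trans (map_smul (h y) _ _)).trans ?_
    rw [← psi_smul_coInd]
    show psiFun φ (y : X) _ • _ = _
    rw [psiFun_germ]
    rfl
  · refine SheafOfModules.hom_ext (PresheafOfModules.hom_ext fun U => ?_)
    ext s
    refine funext fun y => ?_
    show h y (Q.presheaf.germ U.unop (y : X) y.2 (a.val.app U s)) = _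
    rw [show Q.presheaf.germ U.unop (y : X) y.2 (a.val.app U s) =
      (DerSch.stalkFunctor X (y : X)).map a (P.presheaf.germ U.unop (y : X) y.2 s) from
      (DerSch.stalkFunctor_map_germ (y : X) a U.unop y.2 s).symm]
    exact (LinearMap.congr_fun (hh y) _).trans (hg y U.unop y.2 s)

include hcen in
theorem injective_R (hA : FlatMod.IsFinLocFree (X := X) (R φ (SheafOfModules.unit A)))
    (I : SheafOfModules.{u} A) [Injective I] : Injective (R φ I) := by
  haveI := mono_toCog φ hcen I
  haveI := injective_R_cog φ hcen hA I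
  have e : toCog φ hcen I ≫ Injective.factorThru (𝟙 I) (toCog φ hcen I) = 𝟙 I :=
    Injective.comp_factorThru _ _
  constructor
  intro P Q g f hf
  refine ⟨Injective.factorThru (g ≫ (SheafOfModules.restrictScalars φ).map (toCog φ hcen I)) f ≫
    (SheafOfModules.restrictScalars φ).map (Injective.factorThru (𝟙 I) (toCog φ hcen I)), ?_⟩
  rw [← Category.assoc, Injective.comp_factorThru, Category.assoc, ← Functor.map_comp, e,
    CategoryTheory.Functor.map_id, Category.comp_id]

end Groth.Agent.OrdSurf29
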